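import Mathlib.RingTheory.Etale.Locus
import Mathlib.RingTheory.Nakayama
import Mathlib.RingTheory.Etale.Basic
import Mathlib.RingTheory.Kaehler.TensorProduct
import Mathlib.RingTheory.Etale.StandardEtale
import Mathlib.RingTheory.Smooth.Fiber

/-!
# Finite flat algebras which are étale modulo an ideal are étale near its zero set
-/

set_option autoImplicit false
universe u

open TensorProduct

namespace K106.EtNear

variable {R B : Type u} [CommRing R] [CommRing B] [Algebra R B]

theorem exists_etale_away [Module.Finite R B] [Module.Flat R B] [Algebra.FinitePresentation R B] (I : Ideal R)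
    [het : Algebra.Etale (R ⧸ I) (B ⧸ I.map (algebraMap R B))] :
    ∃ s : R, s - 1 ∈ I ∧ Algebra.Etale R (Localization.Away (algebraMap R B s)) := by
  have het' : Algebra.Etale (R ⧸ I) ((R ⧸ I) ⊗[R] B) :=
    Algebra.Etale.of_equiv (Algebra.TensorProduct.quotIdealMapEquivQuotTensor B I)
  have h1 : Subsingleton (Ω[(R ⧸ I) ⊗[R] B ⁄ (R ⧸ I)]) := inferInstance
  let _ : Algebra B ((R ⧸ I) ⊗[R] B) := Algebra.TensorProduct.rightAlgebra
  have h2 : Subsingleton ((R ⧸ I) ⊗[R] Ω[B ⁄ R]) :=
    (KaehlerDifferential.tensorKaehlerEquivBase R (R ⧸ I) B ((R ⧸ I) ⊗[R] B)).toEquiv.subsingleton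
  have hfin : Module.Finite R (Ω[B ⁄ R]) := Module.Finite.trans B _
  have h3 : (⊤ : Submodule R (Ω[B ⁄ R])) ≤ I • ⊤ := by
    intro x _
    have h4 : ((1 : R ⧸ I) ⊗ₜ[R] x) = 0 := Subsingleton.elim _ _
    rw [← Submodule.Quotient.mk_eq_zero, ← TensorProduct.quotTensorEquivQuotSMul_mk_one_tmul, h4,
      map_zero]
  obtain ⟨s, hs, hs'⟩ := Submodule.exists_sub_one_mem_and_smul_eq_zero_of_fg_of_le_smul I ⊤
    Module.Finite.fg_top h3
  refine ⟨s, hs, ?_⟩
  let b : B := algebraMap R B s
  have hflat : Module.Flat R (Localization.Away b) := Module.Flat.trans R B _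
  have hun : Algebra.FormallyUnramified R (Localization.Away b) := by
    constructor
    have h5 : IsLocalizedModule (Submonoid.powers b)
      (KaehlerDifferential.map R R B (Localization.Away b)) := inferInstance
    refine subsingleton_of_forall_eq 0 fun x => ?_
    obtain ⟨⟨y, t⟩, hy⟩ := IsLocalizedModule.surj (Submonoid.powers b)
      (KaehlerDifferential.map R R B (Localization.Away b)) x
    have hbu : IsUnit (algebraMap B (Localization.Away b) b) := IsLocalization.Away.algebraMap_isUnit b
    have hz : (KaehlerDifferential.map R R B (Localization.Away b)) y = 0 := by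
      have h6 : (algebraMap B (Localization.Away b) b) •
          (KaehlerDifferential.map R R B (Localization.Away b)) y = 0 := by
        rw [algebraMap_smul, ← map_smul]
        have : b • y = 0 := by
          have := hs' y trivial
          rwa [← algebraMap_smul B s y] at this
        rw [this, map_zero]
      exact (hbu.smul_eq_zero).1 h6
    rw [hz] at hy
    obtain ⟨_, n, rfl⟩ := t
    have h7 : (algebraMap B (Localization.Away b) (b ^ n)) • x = 0 := by
      rw [algebraMap_smul]
      exact hy
    rw [map_pow] at h7
    exact ((hbu.pow n).smul_eq_zero).1 h7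
  have hfp : Algebra.FinitePresentation R (Localization.Away b) :=
    Algebra.FinitePresentation.trans R B _
  exact Algebra.Etale.of_formallyUnramified_of_flat

end K106.EtNear
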