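import Groth.Prelude.Def_LefX
import Groth.Agent.Dcoh.DualFLF
import Groth.Agent.Dcoh.ClosedProj
import Groth.Agent.Pi1A.LimAlg
import Groth.Agent.Sga2.LefRes389
import Groth.Agent.Sga67.LocBasisOps
import Groth.Agent.CohqB.ToSheafExact
import Groth.Agent.CohqA.IdealMod
import Groth.Agent.FormalB.TrKQuot
import Groth.Agent.PerfA.QCohEpi

/-!
# Maps into a finite locally free module from maps into its reductions

If `Hom(D, O_U) = lim Hom(D, O_U/𝓙^{n+1})` for every finite locally free `D`, then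
`Hom(T, E) = lim Hom(T, E/𝓙^{n+1}E)` for all finite locally free `T`, `E`.
-/

set_option autoImplicit false
universe u

open CategoryTheory CategoryTheory.Limits AlgebraicGeometry Opposite TopologicalSpace MonoidalCategory

namespace K106.HomLim

open scoped Groth.Agent.Dcoh.MonCat
open Groth.Agent Groth.Agent.FormalB.KQuot Groth.Agent.Ega2.Tens Groth.Agent.Pi1A.LimAlg Groth.Agent.Dcoh.ClosedProj
  Groth.Agent.PerfC.TensRestr Groth.Agent.Fdesc.LocGen

section Cat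

universe v w

variable {C : Type w} [Category.{v} C] [MonoidalCategory C] {E E' : C} [ExactPairing E' E]

/-- Abstract form. -/
theorem cat_isLim (Q : ℕ → C) (ρ : ∀ n, 𝟙_ C ⟶ Q n) (q : ∀ n, Q (n + 1) ⟶ Q n) (hq : ∀ n, ρ (n + 1) ≫ q n = ρ n)
    (G : ℕ → C) (g : ∀ n, G (n + 1) ⟶ G n) (p : ∀ n, E ⟶ G n) (hp : ∀ n, p (n + 1) ≫ g n = p n)
    (hepi : ∀ n, Epi (p n)) (l : E ≅ 𝟙_ C ⊗ E) (r : ∀ n, Q n ⊗ E ≅ G n)
    (hr : ∀ n, l.hom ≫ (ρ n) ▷ E ≫ (r n).hom = p n) (T : C)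
    (h1 : ∀ φ ψ : T ⊗ E' ⟶ 𝟙_ C, (∀ n, φ ≫ ρ n = ψ ≫ ρ n) → φ = ψ)
    (h2 : ∀ y : ∀ n, T ⊗ E' ⟶ Q n, (∀ n, y (n + 1) ≫ q n = y n) → ∃ φ : T ⊗ E' ⟶ 𝟙_ C, ∀ n, φ ≫ ρ n = y n) :
    (∀ φ ψ : T ⟶ E, (∀ n, φ ≫ p n = ψ ≫ p n) → φ = ψ) ∧
      ∀ θ : ∀ n, T ⟶ G n, (∀ n, θ (n + 1) ≫ g n = θ n) → ∃ φ : T ⟶ E, ∀ n, φ ≫ p n = θ n := by
  let α : ∀ Z : C, (T ⊗ E' ⟶ Z) ≃ (T ⟶ Z ⊗ E) := fun Z => tensorRightHomEquiv T E' E Z
  have hα : ∀ {Z Z' : C} (f : T ⊗ E' ⟶ Z) (g : Z ⟶ Z'), α Z' (f ≫ g) = α Z f ≫ g ▷ E :=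
    fun f g => tensorRightHomEquiv_naturality f g
  have hr' : ∀ n, (ρ n) ▷ E = l.inv ≫ p n ≫ (r n).inv := fun n => by
    rw [← hr n]
    simp
  have hq' : ∀ n, (q n) ▷ E ≫ (r n).hom = (r (n + 1)).hom ≫ g n := fun n => by
    have h5 : (ρ (n + 1)) ▷ E ≫ (q n) ▷ E = (ρ n) ▷ E := by
      rw [← comp_whiskerRight, hq]
    rw [hr', hr', Category.assoc, Category.assoc, cancel_epi, ← hp n, Category.assoc, cancel_epi,
      Iso.inv_comp_eq] at h5
    rw [h5]
    simp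
  refine ⟨fun φ ψ hφ => ?_, fun θ hθ => ?_⟩
  · have h3 : (α _).symm (φ ≫ l.hom) = (α _).symm (ψ ≫ l.hom) := by
      refine h1 _ _ fun n => (α _).injective ?_
      rw [hα, hα, Equiv.apply_symm_apply, Equiv.apply_symm_apply, hr' n]
      simp only [Category.assoc, Iso.hom_inv_id_assoc]
      rw [← Category.assoc, ← Category.assoc, hφ n]
    exact (cancel_mono _).1 ((α _).symm.injective h3)
  · obtain ⟨φ', hφ'⟩ := h2 (fun n => (α _).symm (θ n ≫ (r n).inv)) fun n => (α _).injective (by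
      rw [hα, Equiv.apply_symm_apply, Equiv.apply_symm_apply, ← cancel_mono (r n).hom]
      simp only [Category.assoc]
      rw [hq' n]
      simp [hθ n])
    refine ⟨α _ φ' ≫ l.inv, fun n => ?_⟩
    have h3 := congrArg (α _) (hφ' n)
    rw [hα, Equiv.apply_symm_apply, hr' n] at h3
    rw [← cancel_mono (r n).inv, ← h3]
    simp

end Cat

variable {U : Scheme.{u}}

/-- `p : E ⟶ G` is the reduction of `E` along the closed immersion `i`. -/
def IsRed {Y : Scheme.{u}} (i : Y ⟶ U) {E G : U.Modules} (p : E ⟶ G) : Prop :=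
  ∃ e : G ≅ (Scheme.Modules.pushforward i).obj ((Scheme.Modules.pullback i).obj E),
    p ≫ e.hom = (Scheme.Modules.pullbackPushforwardAdjunction i).unit.app E

theorem lunit_unit_proj {Y : Scheme.{u}} (i : Y ⟶ U) (E : U.Modules) :
    (lunit E).inv ≫ ((ClSub.unitToPush i) ▷ E) ≫ proj i (Coh.structureModule Y) E ≫
      (Scheme.Modules.pushforward i).map (lunit _).hom =
        (Scheme.Modules.pullbackPushforwardAdjunction i).unit.app E := by
  ext V s
  have h1 : ((ClSub.unitToPush i) ▷ E).app V (tm (M := Coh.structureModule U) (N := E) (sm 1) s) =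
      tm (M := (Scheme.Modules.pushforward i).obj (Coh.structureModule Y)) (N := E) (U := V)
        ((ClSub.unitToPush i).app V (sm 1)) s := tensorBi_map_app_app_tm _ _ _ _
  have h2 := proj_tm i (Coh.structureModule Y) E (U := V) (sm (1 : Γ(Y, i ⁻¹ᵁ V))) s
  have h3 : (ClSub.unitToPush i).app V (sm (1 : Γ(U, V))) = (sm (1 : Γ(Y, i ⁻¹ᵁ V))) :=
    map_one (i.app V).hom
  change ((lunit ((Scheme.Modules.pullback i).obj E)).hom.app (i ⁻¹ᵁ V))
    ((proj i (Coh.structureModule Y) E).app V (((ClSub.unitToPush i) ▷ E).app V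
      (tm (M := Coh.structureModule U) (N := E) (sm 1) s))) = pullSec i s
  rw [h1, h3]
  refine (congrArg (fun z => ((lunit ((Scheme.Modules.pullback i).obj E)).hom.app (i ⁻¹ᵁ V)) z)
    h2).trans ?_
  refine (lunit_hom_tmul _ _).trans ?_
  exact one_smul _ _

/-- The reduction of `E` is `O_Y ⊗ E`. -/
theorem IsRed.exists_iso {Y : Scheme.{u}} {i : Y ⟶ U} [IsClosedImmersion i] {E G : U.Modules} {p : E ⟶ G}
    (hp : IsRed i p) :
    ∃ r : ((Scheme.Modules.pushforward i).obj (Coh.structureModule Y) ⊗ E : U.Modules) ≅ G,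
      (lunit E).inv ≫ ((ClSub.unitToPush i) ▷ E) ≫ r.hom = p := by
  obtain ⟨e, he⟩ := hp
  have h1 : IsIso (proj i (Coh.structureModule Y) E) := isIso_proj i (Coh.structureModule Y) E
  let r1 : ((Scheme.Modules.pushforward i).obj (Coh.structureModule Y) ⊗ E : U.Modules) ≅
      (Scheme.Modules.pushforward i).obj
        (CohB1.tensorMod (Coh.structureModule Y) ((Scheme.Modules.pullback i).obj E)) :=
    @asIso _ _ _ _ (proj i (Coh.structureModule Y) E) h1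
  refine ⟨r1 ≪≫ (Scheme.Modules.pushforward i).mapIso (lunit _) ≪≫ e.symm, ?_⟩
  rw [← cancel_mono e.hom, he, ← lunit_unit_proj]
  simp only [Category.assoc, Iso.trans_hom, Iso.symm_hom, Iso.inv_hom_id, Category.comp_id]
  rfl

theorem isRed_of_isKQuot {K : U.IdealSheafData} {E G : U.Modules} (hE : Coh.IsQCoh E) {p : E ⟶ G}
    (hp : IsKQuot K p) : IsRed K.subschemeι p := by
  obtain ⟨e, he, -⟩ := hp.exists_iso (FormalB.TrKQuot.isKQuot_kπ K hE)
  exact ⟨e, he⟩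

theorem epi_toSubscheme (I : U.IdealSheafData) : Epi (ClSub.toSubscheme I) :=
  (CohqB.ToSheafExact.toAbF U).epi_of_epi_map
    (CohqA.H1Lift.epi_toAb_of_locSurj _ (CohqA.IdealMod.toSubscheme_locSurj I))

theorem isLim (𝓙 : U.IdealSheafData)
    (h : ∀ D : U.Modules, FlatMod.IsFinLocFree D → Lef.HomToFormalBijective 𝓙 D)
    {E : U.Modules} (hE : FlatMod.IsFinLocFree E) (G : ℕᵒᵖ ⥤ U.Modules)
    (p : ∀ n : ℕ, E ⟶ G.obj (op n))
    (hp' : ∀ n, p (n + 1) ≫ G.map (homOfLE (Nat.le_succ n)).op = p n)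
    (hp : ∀ n, IsKQuot (𝓙 ^ (n + 1)) (p n)) {T : U.Modules} (hT : FlatMod.IsFinLocFree T) :
    IsLim G p T := by
  obtain ⟨E', ⟨P⟩⟩ := Dcoh.DualFLF.exists_exactPairing hE
  let _ := P
  let _ : ExactPairing E' E := BraidedCategory.exactPairing_swap E E'
  have hE' := Dcoh.DualFLF.isFinLocFree_dual hE E'
  have hD : FlatMod.IsFinLocFree (T ⊗ E') := Sga67.LocBasis.isFinLocFree_tensorMod hT hE'
  obtain ⟨h1, h2⟩ := h (T ⊗ E') hD
  choose r hr using fun n => (isRed_of_isKQuot (PerfA.QCohEpi.isQCoh_of_isFinLocFree hE) (hp n)).exists_iso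
  have hepi : ∀ n, Epi (p n) := fun n => by
    have h3 : Epi (ClSub.toSubscheme (𝓙 ^ (n + 1))) := epi_toSubscheme _
    have h4 : Epi ((ClSub.toSubscheme (𝓙 ^ (n + 1))) ▷ E) := by
      have : (tensorRight E).IsLeftAdjoint := (tensorRightAdjunction E E').isLeftAdjoint
      exact inferInstanceAs (Epi ((tensorRight E).map (ClSub.toSubscheme (𝓙 ^ (n + 1)))))
    rw [← hr n]
    exact epi_comp' inferInstance (epi_comp' h4 inferInstance)
  obtain ⟨h3, h4⟩ := cat_isLim (C := U.Modules) (E := E) (E' := E') (fun n => ClSub.quotMod (𝓙 ^ (n + 1)))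
    (fun n => ClSub.toSubscheme (𝓙 ^ (n + 1))) (fun n => Lef.quotMap (Lef.pow_succ_le 𝓙 n))
    (fun n => Sga2.LefRes389.toSubscheme_quotMap _) (fun n => G.obj (op n))
    (fun n => G.map (homOfLE (Nat.le_succ n)).op) p hp' hepi (lunit E).symm r hr T h1 h2
  exact ⟨h3, h4⟩

end K106.HomLim
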