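import Groth.Agent.Pi1A.AlgSpec
import Groth.Agent.Pi1C.LefEtale
import Groth.Agent.Pi1C.ChartGlue
import Groth.Agent.CohqB.HomPost
import Groth.Agent.LefX.K106.EtNear
import Groth.Agent.LefX.K106.HomLim

/-!
# The relative spectrum of an algebra lifting a finite étale cover of a closed subscheme
-/

set_option autoImplicit false
universe u

open CategoryTheory CategoryTheory.Limits AlgebraicGeometry Opposite TopologicalSpace

namespace K106.AlgCl

open Groth.Agent Groth.Agent.Pi1A.SheafAlg Groth.Agent.Pi1A.LimAlg Groth.Agent.Pi1A.PushAlg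
  Groth.Agent.FormalB.KQuot Groth.Agent.FormalB.TrKQuot Groth.Agent.CohqB

variable {U V Y : Scheme.{u}} {j : Y ⟶ U} {h : V ⟶ Y}

/-- A coherent algebra on `U` whose reduction along the closed immersion `j` is `h_* O_V`. -/
structure Dat (j : Y ⟶ U) (h : V ⟶ Y) where
  /-- the module -/
  M : U.Modules
  coh : Coh.IsCoh M
  /-- the algebra structure -/
  str : AlgStr M
  /-- the projection -/
  p : M ⟶ pushO (h ≫ j)
  isKQuot : IsKQuot j.ker p
  isHom : IsHom str (Pi1A.PushAlg.str (h ≫ j)) p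

namespace Dat

variable (D : Dat j h)

theorem H : D.str.affα.Coequifibered := D.str.coequifibered D.coh.1

/-- The relative spectrum. -/
noncomputable def Z : Scheme.{u} := RelSpec.obj D.H

/-- The structure map of the relative spectrum. -/
noncomputable def π : D.Z ⟶ U := RelSpec.toBase D.H

theorem finite_sec {W : U.Opens} (hW : IsAffineOpen W) : Module.Finite Γ(U, W) (D.str.Sec W) :=
  have := D.coh.1
  FiniteType2.finite_sections_of_isFT D.M D.coh.2 hW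

instance isFinite_π : IsFinite D.π := by
  apply RelSpec.isFinite_toBase
  intro W
  have := D.finite_sec W.2
  exact RingHom.finite_algebraMap.2 this

/-- The ring map `M(W) → Γ(V, q⁻¹ W)`. -/
noncomputable def ψ (W : U.Opens) : D.str.Sec W →+* Γ(V, (h ≫ j) ⁻¹ᵁ W) where
  toFun m := fn (h ≫ j) W (D.p.app W m)
  map_one' := congrArg (fn (h ≫ j) W) (D.isHom.map_one W)
  map_mul' a b := congrArg (fn (h ≫ j) W) (D.isHom.map_mul W a b)
  map_zero' := congrArg (fn (h ≫ j) W) (map_zero (D.p.app W).hom)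
  map_add' a b := congrArg (fn (h ≫ j) W) (map_add (D.p.app W).hom a b)

theorem ψ_res {W W' : U.Opens} (i : W' ⟶ W) (m : D.str.Sec W) :
    D.ψ W' (D.str.resHom i m) =
      V.presheaf.map (homOfLE ((h ≫ j).preimage_mono (leOfHom i))).op (D.ψ W m) :=
  congrArg (fn (h ≫ j) W') (Groth.Agent.Ega2.Tens.app_res D.p i m).symm

theorem ψ_algebraMap (W : U.Opens) (r : Γ(U, W)) :
    D.ψ W (algebraMap Γ(U, W) (D.str.Sec W) r) = (h ≫ j).app W r := by
  have h1 : algebraMap Γ(U, W) (D.str.Sec W) r = (r • D.str.one W : Γ(D.M, W)) :=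
    (Algebra.algebraMap_eq_smul_one r).trans rfl
  have h2 : D.p.app W (r • D.str.one W) = r • (Pi1A.PushAlg.str (h ≫ j)).one W := by
    rw [Scheme.Modules.Hom.app_smul, D.isHom.map_one]
  have h3 : fn (h ≫ j) W (r • (Pi1A.PushAlg.str (h ≫ j)).one W) = (h ≫ j).app W r * 1 := rfl
  rw [mul_one] at h3
  rw [h1]
  exact (congrArg (fn (h ≫ j) W) h2).trans h3

theorem ψ_surjective {W : U.Opens} (hW : IsAffineOpen W) :
    Function.Surjective (D.ψ W) :=
  IsKQuot.app_surjective D.isKQuot D.coh.1 hW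

theorem ker_ψ {W : U.Opens} (hW : IsAffineOpen W) :
    RingHom.ker (D.ψ W) = (j.ker.ideal ⟨W, hW⟩).map (algebraMap Γ(U, W) (D.str.Sec W)) := by
  have h := IsKQuot.app_eq_zero_iff D.isKQuot D.coh.1 ⟨W, hW⟩
  ext m
  rw [RingHom.mem_ker]
  refine (h m).trans ?_
  have h2 : (j.ker.ideal ⟨W, hW⟩) • (⊤ : Submodule Γ(U, W) (D.str.Sec W)) =
      ((j.ker.ideal ⟨W, hW⟩).map (algebraMap Γ(U, W) (D.str.Sec W))).restrictScalars
        Γ(U, W) := by
    rw [Ideal.smul_top_eq_map]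
  exact (congrArg (fun N => m ∈ N) h2).to_iff

/-- The lift data for `V ⟶ Z`. -/
noncomputable def liftData : RelSpec.LiftData D.str.affα (h ≫ j) where
  ψ W := CommRingCat.ofHom (D.ψ W.toOpens)
  nat {W W'} i := by
    ext m
    exact D.ψ_res _ m
  comp W := by
    ext r
    exact D.ψ_algebraMap _ r

/-- The map `V ⟶ Z`. -/
noncomputable def c : V ⟶ D.Z := RelSpec.lift D.H D.liftData

@[reassoc (attr := simp)]
theorem c_π : D.c ≫ D.π = h ≫ j := RelSpec.lift_toBase D.H D.liftData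

/-- The charts of `Z`. -/
noncomputable def ιZ (W : U.AffineZariskiSite) :
    Spec (CommRingCat.of (D.str.Sec W.toOpens)) ⟶ D.Z := RelSpec.ι D.H W

instance (W : U.AffineZariskiSite) : IsOpenImmersion (D.ιZ W) :=
  inferInstanceAs (IsOpenImmersion (RelSpec.ι D.H W))

/-- The structure map of a chart. -/
noncomputable def strZ (W : U.AffineZariskiSite) :
    Γ(U, W.toOpens) ⟶ CommRingCat.of (D.str.Sec W.toOpens) :=
  CommRingCat.ofHom (algebraMap Γ(U, W.toOpens) (D.str.Sec W.toOpens))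

/-- The ring map of `c` on a chart. -/
noncomputable def ψZ (W : U.AffineZariskiSite) :
    CommRingCat.of (D.str.Sec W.toOpens) ⟶ Γ(V, (h ≫ j) ⁻¹ᵁ W.toOpens) :=
  CommRingCat.ofHom (D.ψ W.toOpens)

@[reassoc]
theorem ιZ_π (W : U.AffineZariskiSite) :
    D.ιZ W ≫ D.π = Spec.map (D.strZ W) ≫ (RelSpec.isAff W).fromSpec :=
  RelSpec.ι_toBase D.H W

@[reassoc]
theorem ι_c (W : U.AffineZariskiSite) : ((h ≫ j) ⁻¹ᵁ W.toOpens).ι ≫ D.c =
    ((h ≫ j) ⁻¹ᵁ W.toOpens).toSpecΓ ≫ Spec.map (D.ψZ W) ≫ D.ιZ W :=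
  RelSpec.ι_lift D.H D.liftData W

theorem isPullback_ιZ (W : U.AffineZariskiSite) :
    IsPullback (D.ιZ W) (Spec.map (D.strZ W)) D.π (RelSpec.isAff W).fromSpec :=
  RelSpec.isPullback_ι D.H W

theorem isPullback_ι_c (W : U.AffineZariskiSite) :
    IsPullback (((h ≫ j) ⁻¹ᵁ W.toOpens).toSpecΓ ≫ Spec.map (D.ψZ W)) ((h ≫ j) ⁻¹ᵁ W.toOpens).ι
      (D.ιZ W) D.c :=
  RelSpec.isPullback_lift D.H D.liftData W

/-- The affine cover of `Z`. -/
noncomputable def coverZ : D.Z.OpenCover := RelSpec.cover D.H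

theorem preimage_eq (W : U.AffineZariskiSite) : D.π ⁻¹ᵁ W.toOpens = (D.ιZ W).opensRange :=
  RelSpec.preimage D.H W

theorem top_le (W : U.AffineZariskiSite) : (⊤ : (Spec (CommRingCat.of (D.str.Sec W.toOpens))).Opens) ≤
    D.ιZ W ⁻¹ᵁ (D.π ⁻¹ᵁ W.toOpens) := by
  rw [preimage_eq, Scheme.Hom.preimage_opensRange]

/-- Sections of `Z` over the preimage of an affine open. -/
noncomputable def sZ (W : U.AffineZariskiSite) :
    Γ(D.Z, D.π ⁻¹ᵁ W.toOpens) ⟶ CommRingCat.of (D.str.Sec W.toOpens) :=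
  (D.ιZ W).appLE (D.π ⁻¹ᵁ W.toOpens) ⊤ (D.top_le W) ≫ (Scheme.ΓSpecIso _).hom

theorem isIso_sZ (W : U.AffineZariskiSite) : IsIso (D.sZ W) := by
  have h1 : IsIso ((D.ιZ W).app (D.π ⁻¹ᵁ W.toOpens)) :=
    (D.ιZ W).isIso_app _ (D.preimage_eq W).le
  have h2 : IsIso ((Spec (CommRingCat.of (D.str.Sec W.toOpens))).presheaf.map (homOfLE (D.top_le W)).op) := by
    have h3 : D.ιZ W ⁻¹ᵁ (D.π ⁻¹ᵁ W.toOpens) = ⊤ := top_le_iff.1 (D.top_le W)
    have : IsIso (homOfLE (D.top_le W)) := ⟨homOfLE h3.le, rfl, rfl⟩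
    infer_instance
  unfold sZ Scheme.Hom.appLE
  infer_instance

theorem π_sZ (W : U.AffineZariskiSite) : D.π.app W.toOpens ≫ D.sZ W = D.strZ W := by
  have h1 : (D.ιZ W ≫ D.π).appLE W.toOpens ⊤ (D.top_le W) =
      D.π.app W.toOpens ≫ (D.ιZ W).appLE (D.π ⁻¹ᵁ W.toOpens) ⊤ (D.top_le W) :=
    Scheme.Hom.comp_appLE _ _ _ _ _
  have h2 : ∀ (f : Spec (CommRingCat.of (D.str.Sec W.toOpens)) ⟶ U)
      (_ : f = Spec.map (D.strZ W) ≫ (RelSpec.isAff W).fromSpec) (e : ⊤ ≤ f ⁻¹ᵁ W.toOpens),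
      f.appLE W.toOpens ⊤ e = D.strZ W ≫ (Scheme.ΓSpecIso _).inv := by
    rintro f rfl e
    rw [Scheme.Hom.comp_appLE, IsAffineOpen.fromSpec_app_self, Category.assoc,
      Scheme.Hom.map_appLE]
    have h4 : (Spec.map (D.strZ W)).appLE ⊤ ⊤ le_top = (Spec.map (D.strZ W)).appTop :=
      Scheme.Hom.appLE_eq_app _
    erw [h4]
    rw [← Scheme.ΓSpecIso_inv_naturality]
  have h3 := h2 _ (D.ιZ_π W) (D.top_le W)
  rw [h1] at h3
  unfold sZ
  rw [← Category.assoc, h3, Category.assoc, Iso.inv_hom_id, Category.comp_id]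

section

variable [IsClosedImmersion j] [IsAffineHom h]

omit [IsAffineHom h] in
theorem isPushout_chart (W : U.AffineZariskiSite) :
    IsPushout (D.strZ W) (j.app W.toOpens) (D.ψZ W) (h.app (j ⁻¹ᵁ W.toOpens)) := by
  refine Pi1C.LefEtale.isPushout_of_surjective (D.strZ W) (j.app W.toOpens) (D.ψZ W)
    (h.app (j ⁻¹ᵁ W.toOpens)) ?_ (j.app_surjective _ W.2) (D.ψ_surjective W.2) ?_
  · ext r
    refine (D.ψ_algebraMap _ r).trans ?_
    exact congr($(Scheme.Hom.comp_app h j W.toOpens) r)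
  · refine (D.ker_ψ W.2).le.trans (Ideal.map_mono ?_)
    rw [Scheme.Hom.ker_apply]

omit [IsClosedImmersion j] in
theorem isPullback_base {W : U.Opens} (hW : IsAffineOpen W) :
    IsPullback ((j ⁻¹ᵁ W).toSpecΓ ≫ Spec.map (j.app W)) (j ⁻¹ᵁ W).ι hW.fromSpec j := by
  have h1 := isPullback_morphismRestrict j W
  refine h1.of_iso (Iso.refl _) hW.isoSpec (Iso.refl _) (Iso.refl _) ?_ ?_ ?_ ?_
  · rw [Iso.refl_hom, Category.id_comp, Scheme.Opens.toSpecΓ_naturality]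
    rfl
  · simp
  · simp
  · simp

theorem isPullback_top (W : U.AffineZariskiSite) :
    IsPullback (((h ≫ j) ⁻¹ᵁ W.toOpens).toSpecΓ ≫ Spec.map (D.ψZ W)) (h ∣_ (j ⁻¹ᵁ W.toOpens))
      (Spec.map (D.strZ W)) ((j ⁻¹ᵁ W.toOpens).toSpecΓ ≫ Spec.map (j.app W.toOpens)) := by
  have h1 := isPullback_SpecMap_of_isPushout _ _ _ _ (D.isPushout_chart W)
  have hY : IsAffineOpen (j ⁻¹ᵁ W.toOpens) := IsAffineOpen.preimage W.2 j
  have hV : IsAffineOpen ((h ≫ j) ⁻¹ᵁ W.toOpens) := IsAffineOpen.preimage hY h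
  refine h1.of_iso hV.isoSpec.symm (Iso.refl _) hY.isoSpec.symm (Iso.refl _) ?_ ?_ ?_ ?_
  · rw [Iso.refl_hom, Category.comp_id]
    exact (Iso.inv_hom_id_assoc hV.isoSpec (Spec.map (D.ψZ W))).symm
  · have h2 := Scheme.Opens.toSpecΓ_naturality h (j ⁻¹ᵁ W.toOpens)
    rw [Iso.symm_hom, Iso.comp_inv_eq, Category.assoc]
    refine (Iso.eq_inv_comp hV.isoSpec).2 ?_
    exact h2
  · simp
  · rw [Iso.refl_hom, Category.comp_id]
    exact (Iso.inv_hom_id_assoc hY.isoSpec (Spec.map (j.app W.toOpens))).symm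

theorem isPullback_chart (W : U.AffineZariskiSite) :
    IsPullback (((h ≫ j) ⁻¹ᵁ W.toOpens).toSpecΓ ≫ Spec.map (D.ψZ W)) (((h ≫ j) ⁻¹ᵁ W.toOpens).ι ≫ h)
      (D.ιZ W ≫ D.π) j := by
  have h1 := (D.isPullback_top W).paste_vert (isPullback_base (j := j) (W := W.toOpens) W.2)
  have h2 : h ∣_ (j ⁻¹ᵁ W.toOpens) ≫ (j ⁻¹ᵁ W.toOpens).ι = ((h ≫ j) ⁻¹ᵁ W.toOpens).ι ≫ h :=
    morphismRestrict_ι h (j ⁻¹ᵁ W.toOpens)
  have h3 : h ∣_ (j ⁻¹ᵁ W.toOpens) ≫ (j ⁻¹ᵁ W.toOpens).ι = ((h ≫ j) ⁻¹ᵁ W.toOpens).ι ≫ h := h2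
  rw [ιZ_π, ← h3]
  exact h1

theorem isPullback_c : IsPullback D.c h D.π j := by
  refine Groth.Agent.CalgA.TwoGlue.isPullback_of_cover ?_ D.coverZ
    (fun W => (((h ≫ j) ⁻¹ᵁ (show U.AffineZariskiSite from W).toOpens : V.Opens) : Scheme.{u}))
    (fun W => ((h ≫ j) ⁻¹ᵁ (show U.AffineZariskiSite from W).toOpens).ι)
    (fun W => ((h ≫ j) ⁻¹ᵁ (show U.AffineZariskiSite from W).toOpens).toSpecΓ ≫ Spec.map (D.ψZ W))
    (fun W => (D.isPullback_ι_c W).flip)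
    (fun W => D.isPullback_chart W)
  exact c_π D

end

end Dat

end K106.AlgCl
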