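import Groth.Agent.LefX.K106.AlgCl
import Groth.Agent.Pi1C.LefStruct
import Groth.Agent.Pi1C.FEtExtend

/-!
# The relative spectrum of an algebra lifting a finite étale cover is étale near the closed subscheme
-/

set_option autoImplicit false
universe u

open CategoryTheory CategoryTheory.Limits AlgebraicGeometry Opposite TopologicalSpace

namespace K106.AlgCl.Dat

open Groth.Agent Groth.Agent.Pi1A.SheafAlg Groth.Agent.CohqB

variable {U V Y : Scheme.{u}} {j : Y ⟶ U} {h : V ⟶ Y} (D : Dat j h)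

theorem flat_π (hM : FlatMod.IsFinLocFree D.M) : Flat D.π := by
  apply RelSpec.toBase_of_spec D.H @Flat
  intro W
  obtain ⟨-, h2⟩ := HomPost.projective_sections hM W.2
  have h3 : Module.Flat Γ(U, W.toOpens) (D.str.Sec W.toOpens) :=
    (Module.Flat.of_projective : Module.Flat Γ(U, W.toOpens) Γ(D.M, W.toOpens))
  rw [HasRingHomProperty.Spec_iff (P := @Flat)]
  exact RingHom.flat_algebraMap_iff.2 h3

/-- The composite ring map on a chart. -/
noncomputable def θ (W : U.AffineZariskiSite) : Γ(D.Z, D.π ⁻¹ᵁ W.toOpens) →+* Γ(V, (h ≫ j) ⁻¹ᵁ W.toOpens) :=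
  (D.ψ W.toOpens).comp (D.sZ W).hom

theorem sZ_bijective (W : U.AffineZariskiSite) : Function.Bijective (D.sZ W).hom := by
  have := D.isIso_sZ W
  exact ConcreteCategory.bijective_of_isIso (D.sZ W)

theorem θ_surjective (W : U.AffineZariskiSite) : Function.Surjective (D.θ W) := by
  have h1 : Function.Surjective (D.ψ W.toOpens) := D.ψ_surjective W.2
  have h2 := (D.sZ_bijective W).2
  intro x
  obtain ⟨y, rfl⟩ := h1 x
  obtain ⟨z, rfl⟩ := h2 y
  exact ⟨z, rfl⟩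

theorem θ_app (W : U.AffineZariskiSite) :
    (D.θ W).comp (D.π.app W.toOpens).hom =
      (h.app (j ⁻¹ᵁ W.toOpens)).hom.comp (j.app W.toOpens).hom := by
  have h1 := congrArg CommRingCat.Hom.hom (D.π_sZ W)
  have h2 : (D.sZ W).hom.comp (D.π.app W.toOpens).hom =
      algebraMap Γ(U, W.toOpens) (D.str.Sec W.toOpens) := h1
  rw [θ, RingHom.comp_assoc, h2]
  ext r
  refine (D.ψ_algebraMap _ r).trans ?_
  exact congr($(Scheme.Hom.comp_app h j W.toOpens) r)

theorem ker_θ (W : U.AffineZariskiSite) :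
    RingHom.ker (D.θ W) = (j.ker.ideal ⟨W.toOpens, W.2⟩).map (D.π.app W.toOpens).hom := by
  have h1 := congrArg CommRingCat.Hom.hom (D.π_sZ W)
  have h2 : (D.sZ W).hom.comp (D.π.app W.toOpens).hom =
      algebraMap Γ(U, W.toOpens) (D.str.Sec W.toOpens) := h1
  have h3 : RingHom.ker (D.θ W) = (RingHom.ker (D.ψ W.toOpens)).comap (D.sZ W).hom := rfl
  rw [h3, D.ker_ψ W.2, ← h2, ← Ideal.map_map]
  exact Ideal.comap_map_of_bijective (D.sZ W).hom (D.sZ_bijective W)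

variable [IsLocallyNoetherian U] [IsClosedImmersion j]

theorem exists_etale (hM : FlatMod.IsFinLocFree D.M) (hp : FEt.prop h) (W : U.AffineZariskiSite) :
    ∃ s : Γ(U, W.toOpens), s - 1 ∈ j.ker.ideal ⟨W.toOpens, W.2⟩ ∧
      letI := (D.π.app W.toOpens).hom.toAlgebra
      Algebra.Etale Γ(U, W.toOpens) (Localization.Away
        (algebraMap Γ(U, W.toOpens) Γ(D.Z, D.π ⁻¹ᵁ W.toOpens) s)) := by
  have h1 : IsFinite h := hp.1
  have h2 : Etale h := hp.2
  have hπ := D.flat_π hM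
  let _ := (D.π.app W.toOpens).hom.toAlgebra
  have hN : IsNoetherianRing Γ(U, W.toOpens) := IsLocallyNoetherian.component_noetherian ⟨W.toOpens, W.2⟩
  have hfin : Module.Finite Γ(U, W.toOpens) Γ(D.Z, D.π ⁻¹ᵁ W.toOpens) :=
    IsFinite.finite_app D.π _ W.2
  have hfl : Module.Flat Γ(U, W.toOpens) Γ(D.Z, D.π ⁻¹ᵁ W.toOpens) := by
    have h4 := HasRingHomProperty.appLE (P := @Flat) D.π hπ ⟨_, W.2⟩
      ⟨_, IsAffineOpen.preimage W.2 D.π⟩ le_rfl
    rw [← Scheme.Hom.app_eq_appLE] at h4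
    exact h4
  have hfp : Algebra.FinitePresentation Γ(U, W.toOpens) Γ(D.Z, D.π ⁻¹ᵁ W.toOpens) :=
    Algebra.FinitePresentation.of_finiteType.1 inferInstance
  have het : Algebra.Etale (Γ(U, W.toOpens) ⧸ j.ker.ideal ⟨W.toOpens, W.2⟩)
      (Γ(D.Z, D.π ⁻¹ᵁ W.toOpens) ⧸ (j.ker.ideal ⟨W.toOpens, W.2⟩).map
        (algebraMap Γ(U, W.toOpens) Γ(D.Z, D.π ⁻¹ᵁ W.toOpens))) := by
    refine Pi1C.LefEtale.etale_quotient (j.ker.ideal ⟨W.toOpens, W.2⟩) (j.app W.toOpens).hom (D.θ W)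
      (h.app (j ⁻¹ᵁ W.toOpens)).hom (D.θ_app W) (j.app_surjective _ W.2) (D.θ_surjective W) ?_ (D.ker_θ W) ?_
    · rw [Scheme.Hom.ker_apply]
    · have h4 := HasRingHomProperty.appLE (P := @Etale) h h2 ⟨_, IsAffineOpen.preimage W.2 j⟩
        ⟨_, IsAffineOpen.preimage (IsAffineOpen.preimage W.2 j) h⟩ le_rfl
      rw [← Scheme.Hom.app_eq_appLE] at h4
      exact h4
  exact EtNear.exists_etale_away (het := het) (j.ker.ideal ⟨W.toOpens, W.2⟩)

theorem exists_basicOpen (hM : FlatMod.IsFinLocFree D.M) (hp : FEt.prop h) (y : Y) :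
    ∃ (W : U.AffineZariskiSite) (s : Γ(U, W.toOpens)), j y ∈ U.basicOpen s ∧
      FEt.prop (D.π ∣_ U.basicOpen s) := by
  obtain ⟨W, hW, hy, -⟩ := exists_isAffineOpen_mem_and_subset (x := j y) (U := ⊤) trivial
  obtain ⟨s, hs, h3⟩ := D.exists_etale hM hp ⟨W, hW⟩
  refine ⟨⟨W, hW⟩, s, ?_, Pi1C.LefEtale.prop_basicOpen D.π hW s h3⟩
  have h4 : j.app W s = 1 := by
    have h5 : s - 1 ∈ RingHom.ker (j.app W).hom := by
      rw [← Scheme.Hom.ker_apply j ⟨W, hW⟩]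
      exact hs
    rw [RingHom.mem_ker, map_sub, map_one, sub_eq_zero] at h5
    exact h5
  change y ∈ j ⁻¹ᵁ U.basicOpen s
  rw [Scheme.preimage_basicOpen, h4]
  rw [Scheme.basicOpen_one]
  exact hy

/-- **The algebra extends the cover to a neighbourhood.** -/
theorem exists_nhd (hM : FlatMod.IsFinLocFree D.M) (hp : FEt.prop h) :
    ∃ N : U.Opens, Set.range j ⊆ N ∧ FEt.prop (D.π ∣_ N) := by
  let K : Type u := {a : Σ W : U.AffineZariskiSite, Γ(U, W.toOpens) // FEt.prop (D.π ∣_ U.basicOpen a.2)}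
  refine ⟨⨆ a : K, U.basicOpen a.1.2, ?_, Pi1C.ChartGlue.prop_iSup D.π (fun a : K => U.basicOpen a.1.2)
    fun a => a.2⟩
  rintro _ ⟨y, rfl⟩
  obtain ⟨W, s, h1, h2⟩ := D.exists_basicOpen hM hp y
  exact (le_iSup (fun a : K => U.basicOpen a.1.2) ⟨⟨W, s⟩, h2⟩) h1

end K106.AlgCl.Dat

namespace K106.AlgCl

open Groth.Agent Groth.Agent.Pi1C.LefStruct

theorem extends_of_dat {U Y : Scheme.{u}} [IsLocallyNoetherian U] {j : Y ⟶ U} [IsClosedImmersion j]
    {V : FEt.Cat Y} (D : Dat j V.hom) (hM : FlatMod.IsFinLocFree D.M) : Extends j V := by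
  obtain ⟨N, hN', hprop⟩ := D.exists_nhd hM V.prop
  have hN : Set.range j ⊆ Set.range N.ι := by rwa [Scheme.Opens.range_ι]
  have haff : IsAffineHom V.hom := by
    have h1 : IsFinite V.hom := V.prop.1
    infer_instance
  let i : Y ⟶ N.toScheme := IsOpenImmersion.lift N.ι j hN
  have hj : i ≫ N.ι = j := IsOpenImmersion.lift_fac _ _ _
  let W : FEt.Cat N.toScheme := MorphismProperty.Over.mk ⊤ (D.π ∣_ N) hprop
  have hr := (isPullback_morphismRestrict D.π N).flip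
  have hcomm : D.c ≫ D.π = (V.hom ≫ i) ≫ N.ι := by
    rw [Category.assoc, hj, D.c_π]
  let w : V.left ⟶ (D.π ⁻¹ᵁ N).toScheme := hr.lift D.c (V.hom ≫ i) hcomm
  have hw : IsPullback w V.hom (D.π ∣_ N) i := by
    refine IsPullback.of_right (h₁₂ := (D.π ⁻¹ᵁ N).ι) (h₂₂ := N.ι) (v₁₃ := D.π) ?_ ?_ hr
    · have e : w ≫ (D.π ⁻¹ᵁ N).ι = D.c := hr.lift_fst _ _ _
      rw [e, hj]
      exact D.isPullback_c
    · exact hr.lift_snd _ _ _
  exact ⟨N, i, hj, W, ⟨Pi1C.FEtExtend.isoOfIsPullback i W V w hw⟩⟩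

end K106.AlgCl
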