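import Groth.Agent.FormalB.KQuot
import Groth.Agent.Divis.IdealComap

/-!
# Modules killed by an ideal sheaf, and restriction to an open subscheme
-/

set_option autoImplicit false
universe u

open CategoryTheory CategoryTheory.Limits AlgebraicGeometry Opposite TopologicalSpace

namespace K106.KRes

open Groth.Agent Groth.Agent.FormalB.KQuot

/-- Two sections agreeing near every point are equal. -/
theorem sec_ext {X : Scheme.{u}} (M : X.Modules) {W : X.Opens} (s t : Γ(M, W))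
    (h : ∀ x ∈ W, ∃ (V : X.Opens) (hV : V ≤ W), x ∈ V ∧
      M.presheaf.map (homOfLE hV).op s = M.presheaf.map (homOfLE hV).op t) : s = t := by
  apply TopCat.Sheaf.eq_of_locally_eq' (F := ⟨M.presheaf, M.isSheaf⟩)
    (fun x : W => (h x.1 x.2).choose) W (fun x => homOfLE (h x.1 x.2).choose_spec.choose)
  · intro x hx
    rw [Opens.mem_iSup]
    exact ⟨⟨x, hx⟩, (h x hx).choose_spec.choose_spec.1⟩
  · intro x
    exact (h x.1 x.2).choose_spec.choose_spec.2

variable {X : Scheme.{u}} {U : X.Opens} {K : X.IdealSheafData}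

theorem killed_push {Z : (U : Scheme.{u}).Modules} (h : ClSub.KilledByIdeal (K.comap U.ι) Z) :
    ClSub.KilledByIdeal K ((Scheme.Modules.pushforward U.ι).obj Z) := by
  rw [killedByIdeal_iff] at h ⊢
  intro W a ha m
  change ((U.ι.app W.1 a : Γ(U, U.ι ⁻¹ᵁ W.1)) • (show Γ(Z, U.ι ⁻¹ᵁ W.1) from m) : Γ(Z, U.ι ⁻¹ᵁ W.1)) = 0
  refine sec_ext Z _ _ fun x hx => ?_
  obtain ⟨D, hD, hxD, hDW⟩ := exists_isAffineOpen_mem_and_subset (X := (U : Scheme.{u})) (x := x)
    (U := U.ι ⁻¹ᵁ W.1) hx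
  refine ⟨D, hDW, hxD, ?_⟩
  have h1 := Divis.IdealComap.ideal_comap_of_isOpenImmersion K U.ι W ⟨D, hD⟩ hDW
  have h2 : (U.ι.appLE W.1 D hDW).hom a ∈ (K.comap U.ι).ideal ⟨D, hD⟩ := by
    rw [h1]
    exact Ideal.mem_map_of_mem _ ha
  have h3 := h ⟨D, hD⟩ _ h2 (Z.presheaf.map (homOfLE hDW).op (show Γ(Z, U.ι ⁻¹ᵁ W.1) from m))
  have h4 := Scheme.Modules.map_smul Z (homOfLE hDW) (U.ι.app W.1 a : Γ(U, U.ι ⁻¹ᵁ W.1))
    (show Γ(Z, U.ι ⁻¹ᵁ W.1) from m)
  refine h4.trans (Eq.trans ?_ (map_zero _).symm)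
  exact h3

theorem killed_of_push {Z : (U : Scheme.{u}).Modules}
    (h : ClSub.KilledByIdeal K ((Scheme.Modules.pushforward U.ι).obj Z)) :
    ClSub.KilledByIdeal (K.comap U.ι) Z := by
  rw [killedByIdeal_iff] at h ⊢
  intro D a ha m
  let W : X.affineOpens := ⟨U.ι ''ᵁ D.1, D.2.image_of_isOpenImmersion U.ι⟩
  have hDW : D.1 ≤ U.ι ⁻¹ᵁ W.1 := (Scheme.Hom.preimage_image_eq U.ι D.1).ge
  have hWD : U.ι ⁻¹ᵁ W.1 ≤ D.1 := (Scheme.Hom.preimage_image_eq U.ι D.1).le
  rw [Divis.IdealComap.ideal_comap_of_isOpenImmersion K U.ι W D hDW] at ha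
  refine Submodule.span_induction (p := fun a _ => a • m = 0) ?_ (zero_smul _ _) ?_ ?_ ha
  · rintro _ ⟨b, hb, rfl⟩
    have h1 := h W b hb (show Γ((Scheme.Modules.pushforward U.ι).obj Z, W.1) from
      Z.presheaf.map (homOfLE hWD).op m)
    have h2 : ((U.ι.app W.1 b : Γ(U, U.ι ⁻¹ᵁ W.1)) • (Z.presheaf.map (homOfLE hWD).op m) :
      Γ(Z, U.ι ⁻¹ᵁ W.1)) = 0 := h1
    have h3 := congrArg (Z.presheaf.map (homOfLE hDW).op) h2
    rw [Scheme.Modules.map_smul, map_zero] at h3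
    have h4 : Z.presheaf.map (homOfLE hDW).op (Z.presheaf.map (homOfLE hWD).op m) = m := by
      rw [← ConcreteCategory.comp_apply, ← Functor.map_comp]
      have : (homOfLE hWD).op ≫ (homOfLE hDW).op = 𝟙 (op D.1) := rfl
      rw [this, CategoryTheory.Functor.map_id]
      rfl
    rw [h4] at h3
    exact h3
  · intro x y _ _ hx hy
    rw [add_smul, hx, hy, add_zero]
  · intro r x _ hx
    rw [smul_assoc, hx, smul_zero]

theorem isKQuot_of_push {E G : (U : Scheme.{u}).Modules} {p : E ⟶ G}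
    (hp : IsKQuot K ((Scheme.Modules.pushforward U.ι).map p)) : IsKQuot (K.comap U.ι) p := by
  refine ⟨?_, killed_of_push hp.killed, fun {Z} φ hZ => ?_⟩
  · have := hp.epi
    exact (Scheme.Modules.pushforward U.ι).epi_of_epi_map this
  · obtain ⟨ψ, hψ⟩ := hp.desc ((Scheme.Modules.pushforward U.ι).map φ) (killed_push hZ)
    obtain ⟨χ, rfl⟩ := (Scheme.Modules.pushforward U.ι).map_surjective ψ
    exact ⟨χ, (Scheme.Modules.pushforward U.ι).map_injective (by rw [Functor.map_comp, hψ])⟩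

end K106.KRes
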