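import Groth.Agent.LefX.K106.Sys
import Groth.Agent.LefX.K106.AlgEt
import Groth.Agent.PerfA.CohSerre
import Groth.Agent.Dcoh.LocalFree

/-!
# Effective Lefschetz: finite étale covers extend to a neighbourhood
-/

set_option autoImplicit false
universe u

open CategoryTheory CategoryTheory.Limits AlgebraicGeometry Opposite TopologicalSpace

namespace K106.LeffExt

open Groth.Agent Groth.Agent.FormalB.KQuot Groth.Agent.Pi1C Groth.Agent.Pi1C.LefStruct K106.LeffSys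
open AlgebraicGeometry.Scheme.Modules (pushforward)
open Groth.Agent.Pi1A.PushAlg (pushO)
open Groth.Agent.Pi1A.SheafAlg

variable {X Z : Scheme.{u}} (ι : Z ⟶ X) [IsClosedImmersion ι] (V₀ : FEt.Cat Z) {U : X.Opens}
  (hU : ((ι.ker).support : Set X) ⊆ (U : Set X))

theorem ker_open_aux {Y : Scheme.{u}} (i : Y ⟶ X) [IsClosedImmersion i] (j : Y ⟶ (U : Scheme.{u}))
    (h0 : j ≫ U.ι = i) : j.ker = i.ker.comap U.ι := by
  have h1 : IsPullback j (𝟙 _) U.ι i := by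
    refine ⟨⟨h0.trans (Category.id_comp _).symm⟩, ⟨PullbackCone.IsLimit.mk _ (fun s => s.snd)
      (fun s => ?_) (fun s => Category.comp_id _) (fun s m _ h2 => ?_)⟩⟩
    · rw [← cancel_mono U.ι, Category.assoc, h0]
      exact s.condition.symm
    · rw [← h2, Category.comp_id]
  rw [← h1.isoPullback_hom_fst, Scheme.Hom.ker_comp_of_isIso,
    Scheme.IdealSheafData.ker_fst_of_isClosedImmersion]

theorem ker_jn (n : ℕ) : (jn ι hU n).ker = (ι.ker.comap U.ι) ^ (n + 1) := by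
  rw [← Divis.IdealComap.comap_pow]
  refine (ker_open_aux (ι.ker ^ (n + 1)).subschemeι (jn ι hU n) (jn_ι ι hU n)).trans ?_
  rw [Scheme.IdealSheafData.ker_subschemeι]

theorem isClosedImmersion_jn (n : ℕ) : IsClosedImmersion (jn ι hU n) := by
  have : IsClosedImmersion (jn ι hU n ≫ U.ι) := by
    rw [jn_ι]
    exact inferInstanceAs (IsClosedImmersion (ι.ker ^ (n + 1)).subschemeι)
  exact .of_comp (jn ι hU n) U.ι

theorem exists_str [IsLocallyNoetherian X] (h : Lef.LefCond X ι.ker) (E : (U : Scheme.{u}).Modules)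
    (hE : FlatMod.IsFinLocFree E) (p : ∀ n, E ⟶ pushO (qn ι V₀ hU n))
    (hp : ∀ n, IsKQuot ((ι.ker.comap U.ι) ^ (n + 1)) (p n))
    (hpt : ∀ n, p (n + 1) ≫ Pi1A.PushAlg.map (LefTower.β ι V₀ n) (β_qn ι V₀ hU n) = p n) :
    ∃ T : AlgStr E, ∀ n, Pi1A.LimAlg.IsHom T (Pi1A.PushAlg.str (qn ι V₀ hU n)) (p n) := by
  let G : ℕᵒᵖ ⥤ (U : Scheme.{u}).Modules := Functor.ofOpSequence (X := fun n => pushO (qn ι V₀ hU n))
    (fun n => Pi1A.PushAlg.map (LefTower.β ι V₀ n) (β_qn ι V₀ hU n))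
  have hG : ∀ n : ℕ, G.map (homOfLE (Nat.le_succ n)).op =
      Pi1A.PushAlg.map (LefTower.β ι V₀ n) (β_qn ι V₀ hU n) := fun n =>
    Functor.ofOpSequence_map_homOfLE_succ _ n
  have hp' : ∀ n : ℕ, p (n + 1) ≫ G.map (homOfLE (Nat.le_succ n)).op = p n := fun n => by
    rw [hG n]
    exact hpt n
  have hL : ∀ {T : (U : Scheme.{u}).Modules}, FlatMod.IsFinLocFree T → Pi1A.LimAlg.IsLim G p T :=
    fun hT => HomLim.isLim (ι.ker.comap U.ι) (fun D hD => h U hU D hD) hE G p hp' hp hT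
  have h2 : FlatMod.IsFinLocFree (CohB1.tensorMod E E) := Sga67.LocBasis.isFinLocFree_tensorMod hE hE
  refine Pi1A.LimAlg.exists_algStr G p hp' (hL Dcoh.LocalFree.isFinLocFree_structureModule) (hL hE)
    (hL h2) (hL (Sga67.LocBasis.isFinLocFree_tensorMod h2 hE)) (fun n => Pi1A.PushAlg.str (qn ι V₀ hU n))
    fun n => ?_
  rw [hG n]
  exact Pi1A.PushAlg.isHom_map _ _

theorem extends_zero [IsLocallyNoetherian X] (h : Lef.LefCond X ι.ker) (E : (U : Scheme.{u}).Modules)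
    (hE : FlatMod.IsFinLocFree E) (φ : FSch.completionMod ι.ker ((pushforward U.ι).obj E) ≅ mod ι V₀) :
    Extends (jn ι hU 0) (LefTower.V ι V₀ 0) := by
  have hq : Coh.IsQCoh ((pushforward U.ι).obj E) :=
    Ega1.QcqsPush.isQCoh_pushforward U.ι _ (PerfA.CohSerre.isCoh_of_isFinLocFree hE).1
  obtain ⟨p, hp, hpt⟩ := exists_p (mod ι V₀) _ hq φ
  obtain ⟨p', hp', hpt'⟩ := exists_pU ι V₀ hU E p hp hpt
  obtain ⟨T, hT⟩ := exists_str ι V₀ hU h E hE p' hp' hpt'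
  let D : AlgCl.Dat (jn ι hU 0) (LefTower.V ι V₀ 0).hom :=
    { M := E
      coh := PerfA.CohSerre.isCoh_of_isFinLocFree hE
      str := T
      p := p' 0
      isKQuot := by
        rw [ker_jn]
        exact hp' 0
      isHom := hT 0 }
  have := isClosedImmersion_jn ι hU 0
  exact AlgCl.extends_of_dat D hE

/-- **Effective Lefschetz: every finite étale cover extends to a neighbourhood.** -/
theorem extends_of_leff [IsLocallyNoetherian X] (h : LefX.LeffCond X ι.ker) : Extends ι V₀ := by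
  obtain ⟨U, E, hU, hE, ⟨φ⟩⟩ := h.2 (mod ι V₀) (isFinLocFree_mod ι V₀)
  obtain ⟨N, i, hi, W, ⟨e⟩⟩ := extends_zero ι V₀ hU h.1 E hE φ
  let a : N.toScheme ≅ (U.ι ''ᵁ N).toScheme := U.ι.isoImage N
  have ha : a.hom ≫ (U.ι ''ᵁ N).ι = N.ι ≫ U.ι := U.ι.isoImage_hom_ι N
  have h1 : i ≫ N.ι ≫ U.ι = LefTower.j ι 0 := by
    rw [← Category.assoc, hi]
    exact jn_ι ι hU 0
  let b : Z ⟶ N.toScheme := (LefTower.e ι).inv ≫ i
  have hb : b ≫ a.hom ≫ (U.ι ''ᵁ N).ι = ι := by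
    rw [ha, Category.assoc, h1, ← LefTower.e_ι, Iso.inv_hom_id_assoc]
  refine ⟨U.ι ''ᵁ N, b ≫ a.hom, (Category.assoc _ _ _).trans hb, (FEt.restrict a.inv).obj W, ⟨?_⟩⟩
  have h2 : (b ≫ a.hom) ≫ a.inv = b := by rw [Category.assoc, Iso.hom_inv_id, Category.comp_id]
  exact ((PurityQuot.restrictComp (b ≫ a.hom) a.inv).app W).symm ≪≫
    (PurityQuot.restrictCongr h2).app W ≪≫ (PurityQuot.restrictComp (LefTower.e ι).inv i).app W ≪≫
    (FEt.restrict (LefTower.e ι).inv).mapIso e ≪≫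
    ((PurityQuot.restrictComp (LefTower.e ι).inv (LefTower.e ι).hom).app V₀).symm ≪≫
    (PurityQuot.restrictCongr (LefTower.e ι).inv_hom_id).app V₀ ≪≫ (PurityQuot.restrictId Z).app V₀

theorem main (X : Scheme.{u}) [IsLocallyNoetherian X] (𝓘 : X.IdealSheafData) (h : LefX.LeffCond X 𝓘)
    (R : FEt.Cat 𝓘.subscheme) : ∃ (U : X.Opens) (R' : FEt.Cat (U : Scheme.{u})),
      (𝓘.support : Set X) ⊆ (U : Set X) ∧ ∀ i : 𝓘.subscheme ⟶ (U : Scheme.{u}),
        i ≫ U.ι = 𝓘.subschemeι → Nonempty ((FEt.restrict i).obj R' ≅ R) := by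
  have h' : LefX.LeffCond X (𝓘.subschemeι).ker := by
    rw [Scheme.IdealSheafData.ker_subschemeι]
    exact h
  obtain ⟨N, j, hj, W, ⟨e⟩⟩ := extends_of_leff 𝓘.subschemeι R h'
  refine ⟨N, W, ?_, fun i hi => ?_⟩
  · rw [← Scheme.IdealSheafData.range_subschemeι, ← hj]
    rintro _ ⟨z, rfl⟩
    exact (j z).2
  · have h1 : i = j := by rw [← cancel_mono N.ι, hi, hj]
    rw [h1]
    exact ⟨e⟩

end K106.LeffExt
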