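import Groth.Agent.LefX.K106.LeffExt
import Groth.Agent.Sga2lef.H89.HtpCore
import Groth.Agent.Sga2lef.H89.EtCI
import Groth.Agent.S0247
import Groth.Agent.S0272

/-!
# Effective Lefschetz and purity: finite étale covers of `X` and of `Y`
-/

set_option autoImplicit false
universe u

open CategoryTheory CategoryTheory.Limits AlgebraicGeometry Opposite TopologicalSpace

namespace K106.LeffPure

open Groth.Agent Groth.Agent.Pi1C

variable {X : Scheme.{u}} (𝓘 : X.IdealSheafData)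

/-- Under Lef, restriction from an open neighbourhood is fully faithful. -/
theorem full_faithful (h : Lef.LefCond X 𝓘) {U : X.Opens} (hU : (𝓘.support : Set X) ⊆ (U : Set X))
    (j : 𝓘.subscheme ⟶ (U : Scheme.{u})) (hj : j ≫ U.ι = 𝓘.subschemeι) :
    (FEt.restrict j).Full ∧ (FEt.restrict j).Faithful := by
  have hc : IsClosedImmersion j := by
    have : IsClosedImmersion (j ≫ U.ι) := by
      rw [hj]
      infer_instance
    exact .of_comp j U.ι
  have hker : j.ker = 𝓘.comap U.ι := by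
    rw [LeffExt.ker_open_aux 𝓘.subschemeι j hj, Scheme.IdealSheafData.ker_subschemeι]
  obtain ⟨h1, h2⟩ := Fdesc.LefEt.restrict_fullyFaithful j.ker (fun D hD => by
    rw [hker]
    exact h U hU D hD)
  have e0 : j.toImage ≫ j.ker.subschemeι = j := j.toImage_imageι
  have : IsIso j.toImage := inferInstance
  have e1 : (FEt.restrict j.toImage).IsEquivalence := PurityQuot.restrict_isEquivalence j.toImage
  let i : FEt.restrict j ≅ FEt.restrict j.ker.subschemeι ⋙ FEt.restrict j.toImage :=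
    PurityQuot.restrictCongr e0.symm ≪≫ PurityQuot.restrictComp j.toImage j.ker.subschemeι
  exact ⟨Functor.Full.of_iso i.symm, Functor.Faithful.of_iso i.symm⟩

theorem exists_lift {U : X.Opens} (hU : (𝓘.support : Set X) ⊆ (U : Set X)) :
    ∃ j : 𝓘.subscheme ⟶ (U : Scheme.{u}), j ≫ U.ι = 𝓘.subschemeι := by
  refine ⟨IsOpenImmersion.lift U.ι 𝓘.subschemeι ?_, IsOpenImmersion.lift_fac _ _ _⟩
  rw [Scheme.Opens.range_ι, Scheme.IdealSheafData.range_subschemeι]
  exact hU

theorem isEquivalence [IsLocallyNoetherian X] (h : LefX.LeffCond X 𝓘)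
    (hp : ∀ U : X.Opens, (𝓘.support : Set X) ⊆ (U : Set X) → (FEt.restrict U.ι).IsEquivalence) :
    (FEt.restrict 𝓘.subschemeι).IsEquivalence := by
  have hfac : ∀ {U : X.Opens} (j : 𝓘.subscheme ⟶ (U : Scheme.{u})) (_ : j ≫ U.ι = 𝓘.subschemeι),
      Nonempty (FEt.restrict 𝓘.subschemeι ≅ FEt.restrict U.ι ⋙ FEt.restrict j) := fun j hj =>
    ⟨PurityQuot.restrictCongr hj.symm ≪≫ PurityQuot.restrictComp j _⟩
  obtain ⟨j, hj⟩ := exists_lift 𝓘 (U := ⊤) (fun _ _ => trivial)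
  obtain ⟨h1, h2⟩ := full_faithful 𝓘 h.1 (U := ⊤) (fun _ _ => trivial) j hj
  have h3 := hp ⊤ (fun _ _ => trivial)
  obtain ⟨i⟩ := hfac j hj
  have hfull : (FEt.restrict 𝓘.subschemeι).Full := Functor.Full.of_iso i.symm
  have hfaith : (FEt.restrict 𝓘.subschemeι).Faithful := Functor.Faithful.of_iso i.symm
  refine { full := hfull, faithful := hfaith, essSurj := ⟨fun R => ?_⟩ }
  obtain ⟨U, R', hU, hR'⟩ := LeffExt.main X 𝓘 h R
  obtain ⟨k, hk⟩ := exists_lift 𝓘 hU
  obtain ⟨e⟩ := hR' k hk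
  obtain ⟨i'⟩ := hfac k hk
  have h4 := hp U hU
  exact ⟨(FEt.restrict U.ι).objPreimage R', ⟨i'.app _ ≪≫
    (FEt.restrict k).mapIso ((FEt.restrict U.ι).objObjPreimageIso R') ≪≫ e⟩⟩

theorem isEquivalence_of_pure [IsLocallyNoetherian X] (U : X.Opens)
    (hpur : ∀ x : X, x ∉ U → (IsRegularLocalRing (X.presheaf.stalk x) ∧ (2 : WithBot ℕ∞) ≤ ringKrullDim (X.presheaf.stalk x)) ∨ (SGA2.IsAbsCompleteIntersection (X.presheaf.stalk x) ∧ (3 : WithBot ℕ∞) ≤ ringKrullDim (X.presheaf.stalk x))) :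
    (FEt.restrict U.ι).IsEquivalence := by
  have h1 : (FEt.restrict ((𝟙 X) ⁻¹ᵁ U).ι).IsEquivalence := by
    refine Sga2lef.H89.HtpCore.isEquivalence_flat U (fun x hx => ?_) (𝟙 X) (fun x hx => ?_)
    · rcases hpur x hx with ⟨hr, hd⟩ | ⟨hc, hd⟩
      · exact Sga2lef.H89.EtCI.depth_of_regular _ 2 hd
      · exact Sga2lef.H89.EtCI.depth_of_ci _ hc 2 (le_trans (by norm_num) hd)
    · rcases hpur x hx with ⟨hr, hd⟩ | ⟨hc, hd⟩
      · exact S0247.result _ hd
      · exact S0272.result _ (Sga2lef.H89.EtCI.isCompleteIntersection_of_abs hc) hd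
  exact h1

end K106.LeffPure
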