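import Groth.Agent.LefX.K106.HomLim
import Groth.Agent.LefX.K106.KRes
import Groth.Agent.Sga2lef.H96.ModSysRec
import Groth.Agent.Pi1C.LefTower
import Groth.Agent.Pi1A.PushAlg
import Groth.Agent.CohqA.AffineBaseChange
import Groth.Agent.CurvesC.PullIso
import Groth.Agent.Fdesc.LefEt
import Groth.Agent.Ega1.QcqsPush
import Groth.Agent.Fdesc.StructMod

/-!
# The formal module of a tower of finite étale covers
-/

set_option autoImplicit false
universe u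

open CategoryTheory CategoryTheory.Limits AlgebraicGeometry Opposite TopologicalSpace

namespace K106.LeffSys

open Groth.Agent Groth.Agent.FormalB.KQuot Groth.Agent.CohqA.PullbackUniv
  Groth.Agent.Sga2lef.H96.Transp Groth.Agent.Sga2lef.H96.ModSysPush Groth.Agent.Pi1C
open AlgebraicGeometry.Scheme.Modules (pushforward pullbackPushforwardAdjunction pushforwardComp
  pushforwardCongr)
open Groth.Agent.Pi1A.PushAlg (pushO)

theorem isUniv_unitToPush {X Y : Scheme.{u}} (f : Y ⟶ X) : IsUniv f (ClSub.unitToPush f) :=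
  (isUniv_iff_isIso f _).2 (CurvesC.PullIso.isIso_pullUnit f)

/-- From an isomorphism with the completion to compatible quotient maps. -/
theorem exists_p {X : Scheme.{u}} {𝓘 : X.IdealSheafData} (𝔐 : FSch.ModSys (FSch.completionAlong X 𝓘))
    (F : X.Modules) (hF : Coh.IsQCoh F) (φ : FSch.completionMod 𝓘 F ≅ 𝔐) :
    ∃ p : ∀ n, F ⟶ pm 𝔐 n, (∀ n, IsKQuot (𝓘 ^ (n + 1)) (p n)) ∧ ∀ n, p (n + 1) ≫ ptr 𝔐 n = p n := by
  rw [Sga2lef.H96.ModSysRec.completionMod_eq] at φ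
  have hiso : ∀ n, IsIso (φ.hom.app n) := fun n =>
    ⟨φ.inv.app n, congrArg (fun f => FSch.ModSys.Hom.app f n) φ.hom_inv_id,
      congrArg (fun f => FSch.ModSys.Hom.app f n) φ.inv_hom_id⟩
  refine ⟨fun n => ((pullbackPushforwardAdjunction (FSch.completionToX X 𝓘 n)).homEquiv F (𝔐.F n)) (φ.hom.app n),
    fun n => @isKQuot_of_isIso _ _ _ hF _ (φ.hom.app n) (hiso n), fun n => ?_⟩
  rw [Sga2lef.H96.ModSysRec.ptr_eq]
  exact (homEquiv_tr _ _ _ _ _ _ _).2 (φ.hom.comm n)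

section Tower

variable {X Z : Scheme.{u}} (ι : Z ⟶ X) [IsClosedImmersion ι] (V₀ : FEt.Cat Z)

/-- The levels. -/
noncomputable abbrev Fn (n : ℕ) : ((FSch.completionAlong X ι.ker).X n).Modules :=
  pushO (LefTower.V ι V₀ n).hom

/-- The transition maps. -/
noncomputable def an (n : ℕ) : Fn ι V₀ (n + 1) ⟶ (pushforward (LefTower.α ι n)).obj (Fn ι V₀ n) :=
  CohqA.AffineBaseChange.pushSquare (LefTower.V ι V₀ (n + 1)).hom (LefTower.α ι n) (LefTower.β ι V₀ n)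
    (LefTower.V ι V₀ n).hom (LefTower.cart ι V₀ n).w (ClSub.unitToPush (LefTower.β ι V₀ n))

theorem isUniv_an (n : ℕ) : IsUniv (LefTower.α ι n) (an ι V₀ n) := by
  have : IsFinite (LefTower.V ι V₀ (n + 1)).hom := (LefTower.V ι V₀ (n + 1)).prop.1
  have : (Coh.structureModule ((𝟭 Scheme).obj (LefTower.V ι V₀ (n + 1)).left)).IsQuasicoherent :=
    Fdesc.StructMod.isQCoh_structureModule _
  exact CohqA.AffineBaseChange.isUniv_pushSquare (LefTower.cart ι V₀ n) _ (isUniv_unitToPush _)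

/-- The transition isomorphisms. -/
noncomputable def en (n : ℕ) : (Scheme.Modules.pullback (LefTower.α ι n)).obj (Fn ι V₀ (n + 1)) ≅ Fn ι V₀ n :=
  @asIso _ _ _ _ (((pullbackPushforwardAdjunction (LefTower.α ι n)).homEquiv _ _).symm (an ι V₀ n))
    ((isUniv_iff_isIso _ _).1 (isUniv_an ι V₀ n))

/-- The formal module. -/
noncomputable def mod : FSch.ModSys (FSch.completionAlong X ι.ker) where
  F := Fn ι V₀
  e := en ι V₀

theorem isFinLocFree_mod : LefX.LevelwiseFinLocFree (mod ι V₀) := fun n => by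
  have h1 : IsFinite (LefTower.V ι V₀ n).hom := (LefTower.V ι V₀ n).prop.1
  have h2 : Etale (LefTower.V ι V₀ n).hom := (LefTower.V ι V₀ n).prop.2
  exact Fdesc.LefEt.isFinLocFree_pushO (LefTower.V ι V₀ n).hom

end Tower

theorem pp_app {X Y Z : Scheme.{u}} (τ : Z ⟶ Y) (g : Y ⟶ X) (h : Z ⟶ X) (w : τ ≫ g = h) (N : Z.Modules)
    (W : X.Opens) (e : h ⁻¹ᵁ W ≤ τ ⁻¹ᵁ (g ⁻¹ᵁ W)) (x : Γ(N, τ ⁻¹ᵁ (g ⁻¹ᵁ W))) :
    ((pp τ g h w N).hom.app W x : Γ(N, h ⁻¹ᵁ W)) = N.presheaf.map (homOfLE e).op x := by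
  subst w
  simp only [pp, Iso.trans_hom, Iso.app_hom, pushforwardCongr_rfl, Category.comp_id]
  have : (homOfLE e).op = 𝟙 _ := rfl
  exact (congr($(N.presheaf.map_id _) x)).symm

theorem pp_inv_app {X Y Z : Scheme.{u}} (τ : Z ⟶ Y) (g : Y ⟶ X) (h : Z ⟶ X) (w : τ ≫ g = h) (N : Z.Modules)
    (W : X.Opens) (e : τ ⁻¹ᵁ (g ⁻¹ᵁ W) ≤ h ⁻¹ᵁ W) (x : Γ(N, h ⁻¹ᵁ W)) :
    ((pp τ g h w N).inv.app W x : Γ(N, τ ⁻¹ᵁ (g ⁻¹ᵁ W))) = N.presheaf.map (homOfLE e).op x := by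
  subst w
  have h1 : (pp τ g (τ ≫ g) rfl N).inv = (pushforwardComp τ g).inv.app N := by
    rw [← cancel_mono (pp τ g (τ ≫ g) rfl N).hom, Iso.inv_hom_id]
    simp only [pp, Iso.trans_hom, Iso.app_hom, pushforwardCongr_rfl, Category.comp_id]
    exact (Iso.inv_hom_id_app _ _).symm
  rw [h1]
  exact (congr($(N.presheaf.map_id _) x)).symm

theorem pres_map_map {Y : Scheme.{u}} (N : Y.Modules) {A B C : Y.Opens} (h : A ≤ B) (h' : B ≤ C) (x : Γ(N, C)) :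
    N.presheaf.map (homOfLE h).op (N.presheaf.map (homOfLE h').op x) =
      N.presheaf.map (homOfLE (h.trans h')).op x :=
  CohqA.PullbackSections.map_map' N h h' x

theorem κ_app {X Y V U : Scheme.{u}} (a : V ⟶ Y) (i : Y ⟶ X) (q : V ⟶ U) (j : U ⟶ X) (w : q ≫ j = a ≫ i)
    (N : V.Modules) (W : X.Opens) (e : q ⁻¹ᵁ (j ⁻¹ᵁ W) ≤ a ⁻¹ᵁ (i ⁻¹ᵁ W)) (x : Γ(N, a ⁻¹ᵁ (i ⁻¹ᵁ W))) :
    ((pp a i (a ≫ i) rfl N ≪≫ (pp q j (a ≫ i) w N).symm).hom.app W x : Γ(N, q ⁻¹ᵁ (j ⁻¹ᵁ W))) =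
      N.presheaf.map (homOfLE e).op x := by
  have h1 := pp_app a i (a ≫ i) rfl N W le_rfl x
  have e2 : q ⁻¹ᵁ (j ⁻¹ᵁ W) ≤ (a ≫ i) ⁻¹ᵁ W := e
  have h2 := pp_inv_app q j (a ≫ i) w N W e2 ((pp a i (a ≫ i) rfl N).hom.app W x)
  refine h2.trans ?_
  refine (congrArg (N.presheaf.map (homOfLE e2).op) h1).trans ?_
  exact pres_map_map N _ _ x

theorem pushSquare_app {S X S' X' : Scheme.{u}} (f : X ⟶ S) (g : S' ⟶ S) (g' : X' ⟶ X) (f' : X' ⟶ S')
    (w : g' ≫ f = f' ≫ g) {M : X.Modules} {N : X'.Modules} (a : M ⟶ (pushforward g').obj N) (W : S.Opens)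
    (e : f' ⁻¹ᵁ (g ⁻¹ᵁ W) ≤ g' ⁻¹ᵁ (f ⁻¹ᵁ W)) (x : Γ(M, f ⁻¹ᵁ W)) :
    ((CohqA.AffineBaseChange.pushSquare f g g' f' w a).app W x : Γ(N, f' ⁻¹ᵁ (g ⁻¹ᵁ W))) =
      N.presheaf.map (homOfLE e).op (a.app (f ⁻¹ᵁ W) x) := by
  have h1 : CohqA.AffineBaseChange.pushSquare f g g' f' w a =
      (pushforward f).map a ≫ (pp g' f (f' ≫ g) w N).hom ≫ (pushforwardComp f' g).inv.app N := by
    simp [CohqA.AffineBaseChange.pushSquare, pp]
  rw [h1]
  exact pp_app g' f (f' ≫ g) w N W e (a.app (f ⁻¹ᵁ W) x)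

section OpenPart

variable {X Z : Scheme.{u}} (ι : Z ⟶ X) [IsClosedImmersion ι] (V₀ : FEt.Cat Z) {U : X.Opens}
  (hU : ((ι.ker).support : Set X) ⊆ (U : Set X))

omit [IsClosedImmersion ι] in
include hU in
theorem exists_j (n : ℕ) : ∃ j : LefTower.Y ι n ⟶ (U : Scheme.{u}), j ≫ U.ι = FSch.completionToX X ι.ker n := by
  refine ⟨IsOpenImmersion.lift U.ι (FSch.completionToX X ι.ker n) ?_, IsOpenImmersion.lift_fac _ _ _⟩
  rintro _ ⟨z, rfl⟩
  rw [Scheme.Opens.range_ι]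
  have h : (ι.ker ^ (n + 1)).subschemeι z ∈ Set.range (ι.ker ^ (n + 1)).subschemeι := ⟨z, rfl⟩
  rw [Scheme.IdealSheafData.range_subschemeι, Scheme.IdealSheafData.support_pow_succ] at h
  exact hU h

/-- The inclusion of the level into `U`. -/
noncomputable def jn (n : ℕ) : LefTower.Y ι n ⟶ (U : Scheme.{u}) := (exists_j ι hU n).choose

theorem jn_ι (n : ℕ) : jn ι hU n ≫ U.ι = FSch.completionToX X ι.ker n := (exists_j ι hU n).choose_spec

/-- The map from the cover to `U`. -/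
noncomputable def qn (n : ℕ) : (LefTower.V ι V₀ n).left ⟶ (U : Scheme.{u}) :=
  (LefTower.V ι V₀ n).hom ≫ jn ι hU n

theorem qn_ι (n : ℕ) : qn ι V₀ hU n ≫ U.ι = (LefTower.V ι V₀ n).hom ≫ FSch.completionToX X ι.ker n := by
  rw [qn, Category.assoc, jn_ι]

theorem β_qn (n : ℕ) : LefTower.β ι V₀ n ≫ qn ι V₀ hU (n + 1) = qn ι V₀ hU n := by
  rw [← cancel_mono U.ι, Category.assoc, qn_ι, qn_ι, (LefTower.cart ι V₀ n).w_assoc]
  exact congrArg (fun t => (LefTower.V ι V₀ n).hom ≫ t) (LefTower.α_j ι n)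

/-- The comparison. -/
noncomputable def κ (n : ℕ) : pm (mod ι V₀) n ≅ (pushforward U.ι).obj (pushO (qn ι V₀ hU n)) :=
  pp (LefTower.V ι V₀ n).hom (FSch.completionToX X ι.ker n) _ rfl _ ≪≫
    (pp (qn ι V₀ hU n) U.ι _ (qn_ι ι V₀ hU n) _).symm

theorem ptr_κ (n : ℕ) : ptr (mod ι V₀) n ≫ (κ ι V₀ hU n).hom = (κ ι V₀ hU (n + 1)).hom ≫
    (pushforward U.ι).map (Pi1A.PushAlg.map (LefTower.β ι V₀ n) (β_qn ι V₀ hU n)) := by
  ext W x
  have e1 : ((pushforward (FSch.completionToX X ι.ker (n + 1))).map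
      (((pullbackPushforwardAdjunction (LefTower.α ι n)).homEquiv _ _) (en ι V₀ n).hom)) =
      (pushforward (FSch.completionToX X ι.ker (n + 1))).map (an ι V₀ n) :=
    congrArg _ (Equiv.apply_symm_apply _ _)
  have e2 : ptr (mod ι V₀) n = (pushforward (FSch.completionToX X ι.ker (n + 1))).map (an ι V₀ n) ≫
      (pp (LefTower.α ι n) (FSch.completionToX X ι.ker (n + 1)) (FSch.completionToX X ι.ker n)
        (LefTower.α_j ι n) (Fn ι V₀ n)).hom := by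
    rw [← e1]
    rfl
  rw [e2]
  let B : (LefTower.V ι V₀ n).left ⟶ (LefTower.V ι V₀ (n + 1)).left := LefTower.β ι V₀ n
  let N : (LefTower.V ι V₀ n).left.Modules := Coh.structureModule _
  let A : (LefTower.V ι V₀ (n + 1)).left.Opens :=
    (LefTower.V ι V₀ (n + 1)).hom ⁻¹ᵁ ((FSch.completionToX X ι.ker (n + 1)) ⁻¹ᵁ W)
  let x' : Γ((LefTower.V ι V₀ (n + 1)).left, A) := x
  let A' : (LefTower.V ι V₀ (n + 1)).left.Opens := qn ι V₀ hU (n + 1) ⁻¹ᵁ (U.ι ⁻¹ᵁ W)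
  let C : (LefTower.V ι V₀ n).left.Opens := qn ι V₀ hU n ⁻¹ᵁ (U.ι ⁻¹ᵁ W)
  let D : (LefTower.V ι V₀ n).left.Opens := (LefTower.V ι V₀ n).hom ⁻¹ᵁ
    ((FSch.completionToX X ι.ker n) ⁻¹ᵁ W)
  let D' : (LefTower.V ι V₀ n).left.Opens := (LefTower.V ι V₀ n).hom ⁻¹ᵁ
    (LefTower.α ι n ⁻¹ᵁ ((FSch.completionToX X ι.ker (n + 1)) ⁻¹ᵁ W))
  have hCD : C = D := by
    have : C = (qn ι V₀ hU n ≫ U.ι) ⁻¹ᵁ W := rfl
    rw [this, qn_ι ι V₀ hU n]
    rfl
  have hDD' : D = D' := by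
    have : D' = (LefTower.V ι V₀ n).hom ⁻¹ᵁ ((LefTower.α ι n ≫ FSch.completionToX X ι.ker (n + 1)) ⁻¹ᵁ W) := rfl
    rw [this]
    have h2 : LefTower.α ι n ≫ FSch.completionToX X ι.ker (n + 1) = FSch.completionToX X ι.ker n :=
      LefTower.α_j ι n
    rw [h2]
  have hAA' : A' = A := by
    have : A' = (qn ι V₀ hU (n + 1) ≫ U.ι) ⁻¹ᵁ W := rfl
    rw [this, qn_ι ι V₀ hU (n + 1)]
    rfl
  have hCB : C ≤ B ⁻¹ᵁ A := by
    rw [← hAA']
    exact Pi1A.PushAlg.le_preimage _ (β_qn ι V₀ hU n) _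
  have hR : (((κ ι V₀ hU (n + 1)).hom ≫ (pushforward U.ι).map
      (Pi1A.PushAlg.map (LefTower.β ι V₀ n) (β_qn ι V₀ hU n))).app W x : Γ((LefTower.V ι V₀ n).left, C)) =
      B.appLE A C hCB x' := by
    have h1 : ((κ ι V₀ hU (n + 1)).hom.app W x : Γ((LefTower.V ι V₀ (n + 1)).left, A')) =
        (LefTower.V ι V₀ (n + 1)).left.presheaf.map (homOfLE hAA'.le).op x' :=
      κ_app _ _ _ _ _ _ W hAA'.le x
    change Pi1A.PushAlg.ringMap (LefTower.β ι V₀ n) (β_qn ι V₀ hU n) (U.ι ⁻¹ᵁ W)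
      ((κ ι V₀ hU (n + 1)).hom.app W x) = _
    rw [h1]
    exact congr($(B.map_appLE (Pi1A.PushAlg.le_preimage _ (β_qn ι V₀ hU n) _) (homOfLE hAA'.le).op) x')
  refine Eq.trans ?_ hR.symm
  have hDB : D' ≤ B ⁻¹ᵁ A := by
    rw [← hDD', ← hCD]
    exact hCB
  have h3 : ((an ι V₀ n).app ((FSch.completionToX X ι.ker (n + 1)) ⁻¹ᵁ W) x : Γ(N, D')) =
      N.presheaf.map (homOfLE hDB).op ((ClSub.unitToPush (LefTower.β ι V₀ n)).app A x) :=
    pushSquare_app _ _ _ _ _ _ _ hDB x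
  have h4 := pp_app (LefTower.α ι n) (FSch.completionToX X ι.ker (n + 1)) (FSch.completionToX X ι.ker n)
        (LefTower.α_j ι n) (Fn ι V₀ n) W (by
          have h2 : LefTower.α ι n ≫ FSch.completionToX X ι.ker (n + 1) = FSch.completionToX X ι.ker n :=
            LefTower.α_j ι n
          rw [← h2]
          exact le_rfl) ((an ι V₀ n).app ((FSch.completionToX X ι.ker (n + 1)) ⁻¹ᵁ W) x)
  have h4' : ((((pushforward (FSch.completionToX X ι.ker (n + 1))).map (an ι V₀ n) ≫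
      (pp (LefTower.α ι n) (FSch.completionToX X ι.ker (n + 1)) (FSch.completionToX X ι.ker n)
        (LefTower.α_j ι n) (Fn ι V₀ n)).hom).app W x : Γ(N, D))) = N.presheaf.map (homOfLE hDD'.le).op
        (((an ι V₀ n).app ((FSch.completionToX X ι.ker (n + 1)) ⁻¹ᵁ W) x : Γ(N, D'))) := h4
  have h5 := κ_app (LefTower.V ι V₀ n).hom (FSch.completionToX X ι.ker n) (qn ι V₀ hU n) U.ι
    (qn_ι ι V₀ hU n) N W hCD.le ((((pushforward (FSch.completionToX X ι.ker (n + 1))).map (an ι V₀ n) ≫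
      (pp (LefTower.α ι n) (FSch.completionToX X ι.ker (n + 1)) (FSch.completionToX X ι.ker n)
        (LefTower.α_j ι n) (Fn ι V₀ n)).hom).app W x : Γ(N, D)))
  refine h5.trans ?_
  rw [h4', h3]
  refine (congrArg (N.presheaf.map (homOfLE hCD.le).op) (pres_map_map N hDD'.le hDB _)).trans ?_
  exact pres_map_map N _ _ _

theorem exists_pU (E : (U : Scheme.{u}).Modules) (p : ∀ n, (pushforward U.ι).obj E ⟶ pm (mod ι V₀) n)
    (hp : ∀ n, IsKQuot (ι.ker ^ (n + 1)) (p n)) (hpt : ∀ n, p (n + 1) ≫ ptr (mod ι V₀) n = p n) :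
    ∃ p' : ∀ n, E ⟶ pushO (qn ι V₀ hU n), (∀ n, IsKQuot ((ι.ker.comap U.ι) ^ (n + 1)) (p' n)) ∧
      ∀ n, p' (n + 1) ≫ Pi1A.PushAlg.map (LefTower.β ι V₀ n) (β_qn ι V₀ hU n) = p' n := by
  choose p' hp' using fun n => (pushforward U.ι).map_surjective (p n ≫ (κ ι V₀ hU n).hom)
  refine ⟨p', fun n => ?_, fun n => ?_⟩
  · rw [← Divis.IdealComap.comap_pow]
    refine KRes.isKQuot_of_push ?_
    rw [hp' n]
    exact (hp n).comp_iso _
  · refine (pushforward U.ι).map_injective ?_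
    rw [Functor.map_comp, hp', hp', Category.assoc, ← ptr_κ, ← Category.assoc, hpt]

end OpenPart

end K106.LeffSys
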